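import Groth.Agent.Lib.Semilocal18.Element
import Mathlib.AlgebraicGeometry.OpenImmersion
import Mathlib.Algebra.Category.Ring.Constructions
import Mathlib.RingTheory.Localization.BaseChange

/-!
# Gluing semilocal one-dimensional subrings of a field
-/

namespace Groth.Agent.Semilocal18

open CategoryTheory AlgebraicGeometry
universe u

variable {K : Type u} [Field K]

/-- `A` is obtained from `R` by inverting `f` -/
structure IsAway (R A : Subring K) (f : K) : Prop where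
  le : R ≤ A
  mem : f ∈ R
  ne_zero : f ≠ 0
  inv_mem : f⁻¹ ∈ A
  exists_pow : ∀ z ∈ A, ∃ N : ℕ, f ^ N * z ∈ R

theorem IsAway.isLocalization {R A : Subring K} {f : K} (h : IsAway R A f) :
    letI := (Subring.inclusion h.le).toAlgebra
    IsLocalization.Away (⟨f, h.mem⟩ : R) A := by
  letI := (Subring.inclusion h.le).toAlgebra
  have hu : IsUnit (algebraMap R A ⟨f, h.mem⟩) :=
    IsUnit.of_mul_eq_one (⟨f⁻¹, h.inv_mem⟩ : A) (Subtype.ext (mul_inv_cancel₀ h.ne_zero))
  refine (isLocalization_iff _ _).2 ⟨?_, fun z => ?_, fun {x y} hxy => ⟨1, ?_⟩⟩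
  · rintro ⟨_, n, rfl⟩
    rw [map_pow]; exact hu.pow n
  · obtain ⟨N, hN⟩ := h.exists_pow z z.2
    exact ⟨(⟨_, hN⟩, ⟨_, N, rfl⟩), Subtype.ext (mul_comm (z : K) (f ^ N))⟩
  · rw [show x = y from Subtype.ext (congrArg (fun a : A => (a : K)) hxy)]

theorem IsAway.isOpenImmersion {R A : Subring K} {f : K} (h : IsAway R A f) :
    IsOpenImmersion (Spec.map (CommRingCat.ofHom (Subring.inclusion h.le))) := by
  letI := (Subring.inclusion h.le).toAlgebra
  haveI := h.isLocalization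
  exact IsOpenImmersion.of_isLocalization (R := R) (S := A) ⟨f, h.mem⟩

theorem IsAway.range_eq {R A : Subring K} {f : K} (h : IsAway R A f) :
    Set.range (Spec.map (CommRingCat.ofHom (Subring.inclusion h.le))).base =
      (PrimeSpectrum.basicOpen (⟨f, h.mem⟩ : R) : Set (PrimeSpectrum R)) := by
  letI := (Subring.inclusion h.le).toAlgebra
  haveI := h.isLocalization
  exact PrimeSpectrum.localization_away_comap_range A _

/-- the setting: finitely many pieces, each with its element -/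
structure Config {ι : Type*} (A : ι → Subring K) (f : ι → K) : Prop where
  good : ∀ i, Good (A i)
  away : ∀ i, IsAway (⨅ j, A j) (A i) (f i)
  jac : ∀ i j, i ≠ j → ∀ (hf : f i ∈ A j), ∀ m : Ideal (A j), m.IsMaximal → (⟨f i, hf⟩ : A j) ∈ m

theorem exists_config {ι : Type*} [Finite ι] (A : ι → Subring K) (hA : ∀ i, Good (A i))
    (hgen : ∀ i j, i ≠ j → A i ⊔ A j = ⊤) : ∃ f : ι → K, Config A f := by
  classical
  haveI := Fintype.ofFinite ι
  choose f hf0 hfi hfinv hfj using fun i => exists_gluing_element (A i) (hA i).semilocal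
    (fun j : {j // j ≠ i} => A j.1) (fun j => hA j.1) (fun j => hgen i j.1 j.2.symm)
  refine ⟨f, hA, fun i => ?_, fun i j hne hf m hm => ?_⟩
  · have hmem : ∀ j, f i ∈ A j := fun j => by
      by_cases h : j = i
      · exact h ▸ hfi i
      · exact (hfj i ⟨j, h⟩).1
    refine ⟨iInf_le A i, Subring.mem_iInf.2 hmem, hf0 i, hfinv i, fun z hz => ?_⟩
    have key : ∀ j, ∃ N : ℕ, ∀ n ≥ N, f i ^ n * z ∈ A j := fun j => by
      by_cases h : j = i
      · exact ⟨0, fun n _ => h ▸ (A i).mul_mem (pow_mem (hfi i) n) hz⟩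
      · obtain ⟨hf, hm⟩ := hfj i ⟨j, h⟩
        exact (hA j).exists_pow_mul_mem ⟨f i, hf⟩ hm z
    choose N hN using key
    exact ⟨Finset.univ.sup N, Subring.mem_iInf.2 fun j => hN j _ (Finset.le_sup (Finset.mem_univ j))⟩
  · exact (hfj i ⟨j, hne.symm⟩).2 m hm

variable {ι : Type*} {A : ι → Subring K} {f : ι → K}

theorem Config.span_eq_top [Fintype ι] (h : Config A f) (hne : Nonempty ι) :
    Ideal.span (Set.range fun i => (⟨f i, (h.away i).mem⟩ : ↥(⨅ j, A j))) = ⊤ := by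
  classical
  let R := ⨅ j, A j
  let s : R := ∑ i, ⟨f i, (h.away i).mem⟩
  refine Ideal.eq_top_of_isUnit_mem _ (show s ∈ _ from Ideal.sum_mem _ fun i _ => Ideal.subset_span ⟨i, rfl⟩) ?_
  have hu : ∀ j, IsUnit (Subring.inclusion (iInf_le A j) s) := fun j => by
    by_contra hn
    obtain ⟨m, hm, hmem⟩ := exists_max_ideal_of_mem_nonunits hn
    rw [map_sum, ← Finset.add_sum_erase _ _ (Finset.mem_univ j)] at hmem
    have hj := (Ideal.add_mem_iff_left _ (Ideal.sum_mem _ fun i hi => h.jac i j (Finset.ne_of_mem_erase hi) _ m hm)).1 hmem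
    exact hm.ne_top (Ideal.eq_top_of_isUnit_mem _ hj
      (IsUnit.of_mul_eq_one (⟨_, (h.away j).inv_mem⟩ : A j) (Subtype.ext (mul_inv_cancel₀ (h.away j).ne_zero))))
  have hinv : ∀ j, (s : K) ≠ 0 ∧ (s : K)⁻¹ ∈ A j := fun j => by
    obtain ⟨w, hw⟩ := (hu j).exists_right_inv
    have hw' : (s : K) * (w : K) = 1 := congrArg Subtype.val hw
    exact ⟨left_ne_zero_of_mul_eq_one hw', eq_inv_of_mul_eq_one_right hw' ▸ w.2⟩
  exact IsUnit.of_mul_eq_one (⟨(s : K)⁻¹, Subring.mem_iInf.2 fun j => (hinv j).2⟩ : R)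
    (Subtype.ext (mul_inv_cancel₀ (hinv hne.some).1))

theorem Config.iUnion_range [Finite ι] (h : Config A f) (hne : Nonempty ι) :
    (⋃ i, Set.range (Spec.map (CommRingCat.ofHom (Subring.inclusion (iInf_le A i)))).base) = Set.univ := by
  haveI := Fintype.ofFinite ι
  refine Set.eq_univ_of_forall fun p => Set.mem_iUnion.2 ?_
  by_contra hn
  push Not at hn
  apply (p : PrimeSpectrum ↥(⨅ j, A j)).isPrime.ne_top
  rw [eq_top_iff, ← h.span_eq_top hne, Ideal.span_le]
  rintro _ ⟨i, rfl⟩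
  by_contra hp
  exact hn i (by rw [(h.away i).range_eq]; exact hp)

/-- a nonzero prime missing `f i` corresponds to a maximal ideal of `A i` -/
theorem Config.exists_maximal_over (h : Config A f) (i : ι) (P : Ideal ↥(⨅ j, A j)) [P.IsPrime] (hP : P ≠ ⊥)
    (hfP : (⟨f i, (h.away i).mem⟩ : ↥(⨅ j, A j)) ∉ P) :
    ∃ M : Ideal (A i), M.IsMaximal ∧ M.comap (Subring.inclusion (iInf_le A i)) = P := by
  letI := (Subring.inclusion (h.away i).le).toAlgebra
  haveI := (h.away i).isLocalization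
  have hd : Disjoint (Submonoid.powers (⟨f i, (h.away i).mem⟩ : ↥(⨅ j, A j)) : Set ↥(⨅ j, A j)) (P : Set ↥(⨅ j, A j)) := by
    rw [Set.disjoint_left]
    rintro _ ⟨n, rfl⟩ hn
    exact hfP (Ideal.IsPrime.mem_of_pow_mem ‹_› n hn)
  let M := P.map (algebraMap ↥(⨅ j, A j) (A i))
  have hc : M.comap (algebraMap ↥(⨅ j, A j) (A i)) = P :=
    IsLocalization.under_map_of_isPrime_disjoint (Submonoid.powers _) (A i) ‹_› hd
  haveI : M.IsPrime := IsLocalization.isPrime_of_isPrime_disjoint (Submonoid.powers _) (A i) P ‹_› hd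
  have hM : M ≠ ⊥ := fun hb => hP (by
    rw [← hc, hb]
    exact (Submodule.eq_bot_iff _).2 fun a ha => Subtype.ext (show (a : K) = 0 from congrArg Subtype.val (show algebraMap ↥(⨅ j, A j) (A i) a = 0 from ha)))
  haveI := (h.good i).krullDimLE
  exact ⟨M, Ring.krullDimLE_one_iff_of_noZeroDivisors.1 ‹_› M hM inferInstance, hc⟩

theorem Config.mem_of_ne (h : Config A f) {i j : ι} (hij : i ≠ j) (P : Ideal ↥(⨅ j, A j)) [P.IsPrime] (hP : P ≠ ⊥)
    (hj : (⟨f j, (h.away j).mem⟩ : ↥(⨅ j, A j)) ∉ P) : (⟨f i, (h.away i).mem⟩ : ↥(⨅ j, A j)) ∈ P := by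
  obtain ⟨M, hM, hMP⟩ := h.exists_maximal_over j P hP hj
  rw [← hMP, Ideal.mem_comap]
  exact h.jac i j hij _ M hM

theorem Config.isFractionRing (h : Config A f) (hne : Nonempty ι) : IsFractionRing ↥(⨅ j, A j) K := by
  obtain ⟨i⟩ := hne
  refine IsFractionRing.of_field _ _ fun z => ?_
  haveI := (h.good i).frac
  obtain ⟨a, b, hb, rfl⟩ := IsFractionRing.div_surjective (A i) z
  obtain ⟨Na, hNa⟩ := (h.away i).exists_pow a a.2
  obtain ⟨Nb, hNb⟩ := (h.away i).exists_pow b b.2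
  refine ⟨⟨f i ^ (Na + Nb) * (a : K), ?_⟩, ⟨f i ^ (Na + Nb) * (b : K), ?_⟩, ?_⟩
  · rw [add_comm, pow_add, mul_assoc]; exact Subring.mul_mem _ (pow_mem (h.away i).mem _) hNa
  · rw [pow_add, mul_assoc]; exact Subring.mul_mem _ (pow_mem (h.away i).mem _) hNb
  · show (a : K) / (b : K) = (f i ^ (Na + Nb) * (a : K)) / (f i ^ (Na + Nb) * (b : K))
    rw [mul_div_mul_left _ _ (pow_ne_zero _ (h.away i).ne_zero)]

theorem Config.isNoetherianRing [Finite ι] (h : Config A f) (hne : Nonempty ι) : IsNoetherianRing ↥(⨅ j, A j) := by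
  classical
  haveI := Fintype.ofFinite ι
  let R := ⨅ j, A j
  refine (isNoetherianRing_iff_ideal_fg R).2 fun J => ?_
  have key : ∀ i, ∃ T : Finset R, (T : Set R) ⊆ J ∧ ∀ x ∈ J, ∃ N : ℕ,
      (⟨f i, (h.away i).mem⟩ : R) ^ N * x ∈ Ideal.span (T : Set R) := by
    intro i
    letI := (Subring.inclusion (h.away i).le).toAlgebra
    haveI := (h.away i).isLocalization
    haveI := (h.good i).noeth
    obtain ⟨T, hTJ, hT⟩ := Submodule.fg_span_iff_fg_span_finset_subset _ |>.1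
      (IsNoetherian.noetherian (Ideal.span (algebraMap R (A i) '' (J : Set R))))
    obtain ⟨T', hT'J, hTT'⟩ := Finset.subset_set_image_iff.1 hTJ
    refine ⟨T', hT'J, fun x hx => ?_⟩
    have hxm : algebraMap R (A i) x ∈ (Ideal.span (T' : Set R)).map (algebraMap R (A i)) := by
      rw [Ideal.map_span, ← Finset.coe_image, hTT', Ideal.span, ← hT]
      exact Submodule.subset_span ⟨x, hx, rfl⟩
    obtain ⟨⟨⟨a, ha⟩, ⟨_, N, rfl⟩⟩, he⟩ := (IsLocalization.mem_map_algebraMap_iff (Submonoid.powers (⟨f i, (h.away i).mem⟩ : R)) (A i)).1 hxm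
    refine ⟨N, ?_⟩
    have he' : ((x : K)) * ((⟨f i, (h.away i).mem⟩ : R) ^ N : R) = (a : K) := congrArg (fun z : A i => (z : K)) he
    rw [show (⟨f i, (h.away i).mem⟩ : R) ^ N * x = a from Subtype.ext (by rw [Subring.coe_mul, mul_comm]; exact he')]
    exact ha
  choose T hTJ hT using key
  refine ⟨Finset.univ.biUnion T, le_antisymm (Ideal.span_le.2 fun t ht => ?_) fun x hx => ?_⟩
  · obtain ⟨i, -, hi⟩ := Finset.mem_biUnion.1 ht
    exact hTJ i hi
  · choose N hN using fun i => hT i x hx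
    have htop := Ideal.span_pow_eq_top _ (h.span_eq_top hne) (Finset.univ.sup N)
    rw [← Set.range_comp] at htop
    obtain ⟨c, hc⟩ := (Submodule.mem_span_range_iff_exists_fun R).1 (Ideal.eq_top_iff_one _ |>.1 htop)
    rw [← one_mul x, ← hc, Finset.sum_mul]
    refine Submodule.sum_mem _ fun i _ => ?_
    rw [smul_eq_mul, mul_assoc]
    refine Ideal.mul_mem_left _ _ ?_
    show (⟨f i, (h.away i).mem⟩ : R) ^ Finset.univ.sup N * x ∈ _
    rw [← Nat.sub_add_cancel (Finset.le_sup (f := N) (Finset.mem_univ i)), pow_add, mul_assoc]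
    exact Ideal.mul_mem_left _ _ (Ideal.span_mono (by exact_mod_cast Finset.subset_biUnion_of_mem T (Finset.mem_univ i)) (hN i))

theorem Config.not_isField (h : Config A f) (hne : Nonempty ι) : ¬ IsField ↥(⨅ j, A j) := by
  intro hF
  obtain ⟨i⟩ := hne
  haveI := h.isFractionRing ⟨i⟩
  obtain ⟨m, hm⟩ := Ideal.exists_maximal (A i)
  obtain ⟨a, ha, ha0⟩ := Submodule.exists_mem_ne_zero_of_ne_bot ((h.good i).ne_bot_of_isMaximal hm)
  obtain ⟨x, y, hy, hxy⟩ := IsFractionRing.div_surjective ↥(⨅ j, A j) ((a : K)⁻¹)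
  obtain ⟨w, hw⟩ := hF.mul_inv_cancel (nonZeroDivisors.ne_zero hy)
  have hyw : (y : K) * (w : K) = 1 := congrArg Subtype.val hw
  have he : (a : K)⁻¹ = ((x * w : ↥(⨅ j, A j)) : K) := by
    rw [← hxy]
    show (x : K) / (y : K) = (x : K) * (w : K)
    rw [div_eq_mul_inv, inv_eq_of_mul_eq_one_right hyw]
  exact hm.ne_top (Ideal.eq_top_of_isUnit_mem _ ha (IsUnit.of_mul_eq_one (Subring.inclusion (iInf_le A i) (x * w))
    (Subtype.ext (show (a : K) * ((x * w : ↥(⨅ j, A j)) : K) = 1 by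
      rw [← he, mul_inv_cancel₀ (fun h0 => ha0 (Subtype.ext h0))]))))

theorem Config.exists_notMem [Finite ι] (h : Config A f) (hne : Nonempty ι) (P : Ideal ↥(⨅ j, A j)) [P.IsPrime] :
    ∃ i, (⟨f i, (h.away i).mem⟩ : ↥(⨅ j, A j)) ∉ P := by
  haveI := Fintype.ofFinite ι
  by_contra hn
  push Not at hn
  apply (inferInstance : P.IsPrime).ne_top
  rw [eq_top_iff, ← h.span_eq_top hne, Ideal.span_le]
  rintro _ ⟨i, rfl⟩
  exact hn i

theorem Config.isMaximal [Finite ι] (h : Config A f) (hne : Nonempty ι) (P : Ideal ↥(⨅ j, A j)) [P.IsPrime] (hP : P ≠ ⊥) :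
    P.IsMaximal := by
  obtain ⟨Q, hQ, hPQ⟩ := P.exists_le_maximal (inferInstance : P.IsPrime).ne_top
  obtain ⟨j, hjQ⟩ := h.exists_notMem hne Q
  have hQ0 : Q ≠ ⊥ := fun hq => hP (le_bot_iff.1 (hq ▸ hPQ))
  letI := (Subring.inclusion (h.away j).le).toAlgebra
  haveI := (h.away j).isLocalization
  have hjP : (⟨f j, (h.away j).mem⟩ : ↥(⨅ j, A j)) ∉ P := fun hh => hjQ (hPQ hh)
  have hdis : ∀ I : Ideal ↥(⨅ j, A j), I.IsPrime → (⟨f j, (h.away j).mem⟩ : ↥(⨅ j, A j)) ∉ I →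
      Disjoint (Submonoid.powers (⟨f j, (h.away j).mem⟩ : ↥(⨅ j, A j)) : Set ↥(⨅ j, A j)) (I : Set ↥(⨅ j, A j)) := by
    intro I hI hnot
    rw [Set.disjoint_left]
    rintro _ ⟨n, rfl⟩ hn
    exact hnot (hI.mem_of_pow_mem n hn)
  haveI := (h.good j).krullDimLE
  haveI : (P.map (algebraMap ↥(⨅ j, A j) (A j))).IsPrime :=
    IsLocalization.isPrime_of_isPrime_disjoint (Submonoid.powers _) (A j) P ‹_› (hdis P inferInstance hjP)
  have hPc := IsLocalization.under_map_of_isPrime_disjoint (Submonoid.powers _) (A j) ‹P.IsPrime› (hdis P inferInstance hjP)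
  have hQc := IsLocalization.under_map_of_isPrime_disjoint (Submonoid.powers _) (A j) hQ.isPrime (hdis Q hQ.isPrime hjQ)
  have hPm : (P.map (algebraMap ↥(⨅ j, A j) (A j))).IsMaximal := by
    refine Ring.krullDimLE_one_iff_of_noZeroDivisors.1 ‹_› _ (fun hb => hP ?_) inferInstance
    rw [← hPc, hb]
    exact (Submodule.eq_bot_iff _).2 fun a ha => Subtype.ext (show (a : K) = 0 from congrArg Subtype.val (show algebraMap ↥(⨅ j, A j) (A j) a = 0 from ha))
  haveI : (Q.map (algebraMap ↥(⨅ j, A j) (A j))).IsPrime :=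
    IsLocalization.isPrime_of_isPrime_disjoint (Submonoid.powers _) (A j) Q hQ.isPrime (hdis Q hQ.isPrime hjQ)
  have he := hPm.eq_of_le (Ideal.IsPrime.ne_top inferInstance) (Ideal.map_mono hPQ)
  rw [← hPc, he, hQc]
  exact hQ

theorem Config.ringKrullDim_eq [Finite ι] (h : Config A f) (hne : Nonempty ι) : ringKrullDim ↥(⨅ j, A j) = 1 := by
  haveI : Ring.KrullDimLE 1 ↥(⨅ j, A j) := Ring.krullDimLE_one_iff_of_noZeroDivisors.2 fun P hP hP' =>
    @Config.isMaximal _ _ _ _ _ _ h hne P hP' hP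
  refine le_antisymm (by simpa using Ring.krullDimLE_iff.1 ‹Ring.KrullDimLE 1 ↥(⨅ j, A j)›) ?_
  obtain ⟨m, hm, hm'⟩ := (Ring.not_isField_iff_exists_prime.1 (h.not_isField hne))
  exact Order.one_le_krullDim_iff.2 ⟨⟨⊥, Ideal.isPrime_bot⟩, ⟨m, hm'⟩, hm.bot_lt⟩

theorem Config.finite_maximalSpectrum [Finite ι] (h : Config A f) (hne : Nonempty ι) :
    Finite (MaximalSpectrum ↥(⨅ j, A j)) := by
  haveI := fun i => (h.good i).semilocal
  have hP0 : ∀ P : MaximalSpectrum ↥(⨅ j, A j), P.asIdeal ≠ ⊥ := fun P hb =>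
    h.not_isField hne (Ring.isField_iff_maximal_bot.2 (hb ▸ P.isMaximal))
  have : ∀ P : MaximalSpectrum ↥(⨅ j, A j), ∃ x : Σ i, MaximalSpectrum (A i),
      x.2.asIdeal.comap (Subring.inclusion (iInf_le A x.1)) = P.asIdeal := fun P => by
    haveI := P.isMaximal.isPrime
    obtain ⟨i, hi⟩ := h.exists_notMem hne P.asIdeal
    obtain ⟨M, hM, hMP⟩ := h.exists_maximal_over i P.asIdeal (hP0 P) hi
    exact ⟨⟨i, M, hM⟩, hMP⟩
  choose g hg using this
  exact Finite.of_injective g fun P Q hPQ => MaximalSpectrum.ext (by rw [← hg P, ← hg Q, hPQ])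

theorem Config.existsUnique [Finite ι] (h : Config A f) (hne : Nonempty ι) (m : PrimeSpectrum ↥(⨅ j, A j))
    (hm : m.asIdeal.IsMaximal) :
    ∃! i, m ∈ Set.range (Spec.map (CommRingCat.ofHom (Subring.inclusion (iInf_le A i)))).base := by
  have hm0 : m.asIdeal ≠ ⊥ := fun hb => h.not_isField hne (Ring.isField_iff_maximal_bot.2 (hb ▸ hm))
  obtain ⟨i, hi⟩ := h.exists_notMem hne m.asIdeal
  refine ⟨i, (Set.ext_iff.1 (h.away i).range_eq m).2 hi, fun j hj => ?_⟩
  replace hj := (Set.ext_iff.1 (h.away j).range_eq m).1 hj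
  by_contra hji
  exact hj (h.mem_of_ne hji m.asIdeal hm0 hi)

/-- two pieces: the square is cocartesian -/
theorem isPushout_of_isAway {R A B : Subring K} {g : K} (h : IsAway R B g) (hRA : R ≤ A) (hg : g ∈ A)
    (hK : ∀ z : K, ∃ N : ℕ, g ^ N * z ∈ A) :
    IsPushout (CommRingCat.ofHom (Subring.inclusion hRA)) (CommRingCat.ofHom (Subring.inclusion h.le))
      (CommRingCat.ofHom A.subtype) (CommRingCat.ofHom B.subtype) := by
  letI : Algebra R B := (Subring.inclusion h.le).toAlgebra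
  letI : Algebra R A := (Subring.inclusion hRA).toAlgebra
  letI : Algebra A K := A.subtype.toAlgebra
  letI : Algebra B K := B.subtype.toAlgebra
  letI : Algebra R K := R.subtype.toAlgebra
  haveI : IsScalarTower R A K := IsScalarTower.of_algebraMap_eq fun _ => rfl
  haveI : IsScalarTower R B K := IsScalarTower.of_algebraMap_eq fun _ => rfl
  haveI : IsLocalization (Submonoid.powers (⟨g, h.mem⟩ : R)) B := h.isLocalization
  haveI : IsLocalization (Algebra.algebraMapSubmonoid A (Submonoid.powers (⟨g, h.mem⟩ : R))) K := by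
    refine (isLocalization_iff _ _).2 ⟨?_, fun z => ?_, fun {x y} hxy => ⟨1, ?_⟩⟩
    · rintro ⟨_, _, ⟨n, rfl⟩, rfl⟩
      exact IsUnit.mk0 _ (show ((((⟨g, h.mem⟩ : R) ^ n : R)) : K) ≠ 0 by
        rw [SubmonoidClass.coe_pow]; exact pow_ne_zero n h.ne_zero)
    · obtain ⟨N, hN⟩ := hK z
      refine ⟨(⟨_, hN⟩, ⟨_, _, ⟨N, rfl⟩, rfl⟩), ?_⟩
      show z * ((((⟨g, h.mem⟩ : R) ^ N : R)) : K) = g ^ N * z
      rw [SubmonoidClass.coe_pow, mul_comm]
    · rw [show x = y from Subtype.ext hxy]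
  haveI : Algebra.IsPushout R A B K := Algebra.isPushout_of_isLocalization (Submonoid.powers (⟨g, h.mem⟩ : R)) B A K
  exact CommRingCat.isPushout_iff_isPushout.2 ‹_›

/-- the two-piece package -/
theorem glue_two (A B : Subring K) (hA : Good A) (hB : Good B) (hgen : A ⊔ B = ⊤) :
    IsOpenImmersion (Spec.map (CommRingCat.ofHom (Subring.inclusion (inf_le_left : A ⊓ B ≤ A)))) ∧
      IsOpenImmersion (Spec.map (CommRingCat.ofHom (Subring.inclusion (inf_le_right : A ⊓ B ≤ B)))) ∧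
      Set.range (Spec.map (CommRingCat.ofHom (Subring.inclusion (inf_le_left : A ⊓ B ≤ A)))).base ∪
        Set.range (Spec.map (CommRingCat.ofHom (Subring.inclusion (inf_le_right : A ⊓ B ≤ B)))).base = Set.univ ∧
      IsPushout (CommRingCat.ofHom (Subring.inclusion (inf_le_left : A ⊓ B ≤ A)))
        (CommRingCat.ofHom (Subring.inclusion (inf_le_right : A ⊓ B ≤ B)))
        (CommRingCat.ofHom A.subtype) (CommRingCat.ofHom B.subtype) := by
  let C : Bool → Subring K := fun b => cond b A B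
  have hC : ∀ b, Good (C b) := fun b => by cases b; exacts [hB, hA]
  have hCg : ∀ i j, i ≠ j → C i ⊔ C j = ⊤ := fun i j hij => by
    cases i <;> cases j
    exacts [absurd rfl hij, (sup_comm _ _).trans hgen, hgen, absurd rfl hij]
  obtain ⟨f, hf⟩ := exists_config C hC hCg
  have hR : (⨅ j, C j) = A ⊓ B := iInf_bool_eq
  have hT : IsAway (A ⊓ B) A (f true) := hR ▸ hf.away true
  have hF : IsAway (A ⊓ B) B (f false) := hR ▸ hf.away false
  refine ⟨hT.isOpenImmersion, hF.isOpenImmersion, ?_, ?_⟩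
  · rw [hT.range_eq, hF.range_eq]
    refine Set.eq_univ_of_forall fun p => ?_
    by_contra hn
    rw [Set.mem_union, not_or] at hn
    have hp1 : (⟨f true, hT.mem⟩ : ↥(A ⊓ B)) ∈ (p : PrimeSpectrum ↥(A ⊓ B)).asIdeal := not_not.1 hn.1
    have hp2 : (⟨f false, hF.mem⟩ : ↥(A ⊓ B)) ∈ (p : PrimeSpectrum ↥(A ⊓ B)).asIdeal := not_not.1 hn.2
    apply (p : PrimeSpectrum ↥(A ⊓ B)).isPrime.ne_top
    let e : ↥(⨅ j, C j) →+* ↥(A ⊓ B) := Subring.inclusion hR.le
    have h1 := congrArg (Ideal.map e) (hf.span_eq_top ⟨true⟩)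
    rw [Ideal.map_top, Ideal.map_span] at h1
    rw [eq_top_iff, ← h1, Ideal.span_le]
    rintro _ ⟨_, ⟨b, rfl⟩, rfl⟩
    cases b
    exacts [hp2, hp1]
  · refine isPushout_of_isAway hF inf_le_left (Subring.mem_inf.1 hF.mem).1 fun z => ?_
    obtain ⟨N, hN⟩ := hA.exists_pow_mul_mem ⟨f false, (Subring.mem_inf.1 hF.mem).1⟩
      (hf.jac false true (by decide) _) z
    exact ⟨N, hN N le_rfl⟩

end Groth.Agent.Semilocal18
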